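import Cfsg.Prelude.Def_FischerSpaces
import Cfsg.Prelude.Def_Local

/-!
# Transport along isomorphisms (helper841)
-/

set_option autoImplicit false

namespace Cfsg.Agent.H841.Transport

open Subgroup

variable {G G' : Type*} [Group G] [Group G']

theorem map_centralizer (e : G ≃* G') (s : Set G) :
    (Subgroup.centralizer s).map e.toMonoidHom = Subgroup.centralizer (e '' s) := by
  ext x
  constructor
  · rintro ⟨y, hy, rfl⟩
    rw [Subgroup.mem_centralizer_iff]
    rintro _ ⟨z, hz, rfl⟩
    show e z * e y = e y * e z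
    rw [← map_mul, ← map_mul, Subgroup.mem_centralizer_iff.1 hy z hz]
  · intro hx
    refine ⟨e.symm x, ?_, e.apply_symm_apply x⟩
    rw [SetLike.mem_coe, Subgroup.mem_centralizer_iff]
    intro z hz
    have h := Subgroup.mem_centralizer_iff.1 hx (e z) ⟨z, hz, rfl⟩
    apply e.injective
    rw [map_mul, map_mul, e.apply_symm_apply, h]

theorem coe_map (e : G ≃* G') (H : Subgroup G) : ((H.map e.toMonoidHom : Subgroup G') : Set G') = e '' (H : Set G) := rfl

theorem map_normalizer (e : G ≃* G') (H : Subgroup G) :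
    (Subgroup.normalizer (H : Set G)).map e.toMonoidHom =
      Subgroup.normalizer ((H.map e.toMonoidHom : Subgroup G') : Set G') := by
  have key : ∀ {G G' : Type _} [Group G] [Group G'] (e : G ≃* G') (H : Subgroup G) (y : G),
      y ∈ Subgroup.normalizer (H : Set G) →
      e y ∈ Subgroup.normalizer ((H.map e.toMonoidHom : Subgroup G') : Set G') := by
    intro G G' _ _ e H y hy
    rw [Subgroup.mem_normalizer_iff] at hy ⊢
    intro z
    have h1 : ∀ z : G', z ∈ H.map e.toMonoidHom ↔ e.symm z ∈ H := by
      intro z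
      constructor
      · rintro ⟨w, hw, rfl⟩
        show e.symm (e w) ∈ H
        rwa [e.symm_apply_apply]
      · intro hz
        exact ⟨e.symm z, hz, e.apply_symm_apply z⟩
    rw [h1, h1, hy, map_mul, map_mul, map_inv, e.symm_apply_apply]
  ext x
  constructor
  · rintro ⟨y, hy, rfl⟩
    exact key e H y hy
  · intro hx
    refine ⟨e.symm x, ?_, e.apply_symm_apply x⟩
    rw [SetLike.mem_coe, Subgroup.mem_normalizer_iff]
    intro z
    rw [Subgroup.mem_normalizer_iff] at hx
    have h2 := hx (e z)
    have h3 : ∀ z : G, e z ∈ H.map e.toMonoidHom ↔ z ∈ H := by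
      intro z
      constructor
      · rintro ⟨w, hw, h⟩
        have h' : e w = e z := h
        rwa [← e.injective h']
      · intro hz
        exact ⟨z, hz, rfl⟩
    rw [h3] at h2
    rw [h2, ← h3]
    have h4 : e (e.symm x * z * (e.symm x)⁻¹) = x * e z * x⁻¹ := by
      rw [map_mul, map_mul, map_inv, e.apply_symm_apply]
    rw [h4]

theorem map_closure (e : G ≃* G') (s : Set G) : (Subgroup.closure s).map e.toMonoidHom = Subgroup.closure (e '' s) :=
  MonoidHom.map_closure e.toMonoidHom s

theorem image_inter (e : G ≃* G') (D : Set G) (H : Subgroup G) :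
    e '' (D ∩ (Subgroup.centralizer (H : Set G) : Set G)) =
      (e '' D) ∩ (Subgroup.centralizer ((H.map e.toMonoidHom : Subgroup G') : Set G') : Set G') := by
  rw [coe_map, ← map_centralizer, coe_map, Set.image_inter e.injective]

theorem commutingWidth_image (e : G ≃* G') (D : Set G) : commutingWidth (e '' D) = commutingWidth D := by
  unfold commutingWidth
  congr 1
  ext n
  constructor
  · rintro ⟨E, hE, hf, hc, rfl⟩
    refine ⟨e ⁻¹' E, ?_, hf.preimage e.injective.injOn, ?_, ?_⟩
    · intro x hx
      obtain ⟨d, hd, h⟩ := hE hx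
      rwa [← e.injective h]
    · intro a ha b hb
      have h := hc (e a) ha (e b) hb
      apply e.injective
      rw [map_mul, map_mul]
      exact h
    · rw [← Set.ncard_image_of_injective _ e.injective, Set.image_preimage_eq _ e.surjective]
  · rintro ⟨E, hE, hf, hc, rfl⟩
    refine ⟨e '' E, Set.image_mono hE, hf.image e, ?_, Set.ncard_image_of_injective _ e.injective⟩
    rintro _ ⟨a, ha, rfl⟩ _ ⟨b, hb, rfl⟩
    exact (hc a ha b hb).map e

/-- the subgroups `H` and `H.map e` are isomorphic -/
noncomputable def mapEquiv (e : G ≃* G') (H : Subgroup G) : ↥H ≃* ↥(H.map e.toMonoidHom) :=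
  H.equivMapOfInjective e.toMonoidHom e.injective

theorem card_map (e : G ≃* G') (H : Subgroup G) : Nat.card ↥(H.map e.toMonoidHom) = Nat.card ↥H :=
  (Nat.card_congr (mapEquiv e H).toEquiv).symm

theorem isElementaryAbelian_map (e : G ≃* G') {p : ℕ} {H : Subgroup G} (h : IsElementaryAbelian p H) :
    IsElementaryAbelian p (H.map e.toMonoidHom) := by
  refine ⟨⟨⟨?_⟩⟩, ?_⟩
  · rintro ⟨_, a, ha, rfl⟩ ⟨_, b, hb, rfl⟩
    apply Subtype.ext
    show e a * e b = e b * e a
    rw [← map_mul, ← map_mul]
    have h1 := h.1.1.1 ⟨a, ha⟩ ⟨b, hb⟩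
    have h2 : a * b = b * a := congrArg Subtype.val h1
    rw [h2]
  · rintro _ ⟨a, ha, rfl⟩
    show (e a) ^ p = 1
    rw [← map_pow, h.2 a ha, map_one]

end Cfsg.Agent.H841.Transport
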