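import Cfsg.Agent.LThreeFi24.FiveConj

/-!
# `Fi24`: three transpositions invert a product of two transpositions (helper841)

The statements of `LThreeFi24.Base24` (helper47) with a smaller closure.
-/

set_option autoImplicit false
set_option maxRecDepth 100000

namespace Cfsg.Agent.H841.Inv3

open Cfsg Cfsg.Agent.Lib.PermNet Cfsg.Agent.Lib.PermNetPt Cfsg.Agent.Fischer.Fi24RepDef Cfsg.Agent.Fischer.Fi24Rep
open Cfsg.Agent.Fischer.Fi24RepOrb (UG orbG)
open Cfsg.Agent.KFacts.FiTF.Pts Cfsg.Agent.KFacts.FiTF.FixMask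
open Cfsg.Agent.LThreeFi24.SNine Cfsg.Agent.LThreeFi24.SNineK
open Cfsg.Spor (Fi24 Fi23)
open Cfsg.Spor.Fi24 (Gen)
open Subgroup
open Cfsg.Agent.R08.FiTwentyFour (L)

theorem word_one' (x : Gen) : word [x] = gen x := by
  rw [Cfsg.Agent.Fischer.Fi24Spider.word_cons, Cfsg.Agent.Fischer.Fi24Spider.word_nil, mul_one]

theorem gen_mem (x : Gen) : gen x ∈ L := Cfsg.Agent.R08.FiTwentyFour.gen_mem_L x

/-- transitivity on the noncommuting pairs -/
theorem noncomm_trans {a b a' b' : Fi24} (ha : a ∈ L) (hb : b ∈ L) (ha' : a' ∈ L) (hb' : b' ∈ L) (hn : ¬ Commute a b)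
    (hn' : ¬ Commute a' b') : ∃ g, g * a * g⁻¹ = a' ∧ g * b * g⁻¹ = b' := by
  obtain ⟨R, h1, h2, h3⟩ := Cfsg.Agent.R08.FiTwentyFour.facts.exists_rank3
  have key : ∀ {a b : Fi24}, a ∈ L → b ∈ L → ¬ Commute a b → ∃ g, g * R.t R.x0 * g⁻¹ = a ∧ g * R.t R.b * g⁻¹ = b := by
    intro a b ha hb hn
    rw [← h3] at ha hb
    obtain ⟨x, rfl⟩ := ha
    obtain ⟨y, rfl⟩ := hb
    obtain ⟨g, rfl⟩ := R.trans x
    have hn2 : ¬ R.Com (g • R.x0) y := hn
    have hn3 : ¬ R.Com R.x0 (g⁻¹ • y) := by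
      intro h
      apply hn2
      have h4 := (R.com_smul g R.x0 (g⁻¹ • y)).2 h
      rwa [smul_inv_smul] at h4
    rcases R.rank3 (g⁻¹ • y) with h4 | ⟨h, hh, h4⟩ | ⟨h, hh, h4⟩
    · rw [h4] at hn3
      exact absurd (R.com_self _) hn3
    · exfalso
      apply hn3
      have h5 := (R.com_smul h R.x0 R.c).2 R.com_x0_c
      rwa [hh, h4] at h5
    · refine ⟨g * h, ?_, ?_⟩
      · have h6 : (g * h) • R.x0 = g • R.x0 := by rw [mul_smul, hh]
        rw [← R.map_smul, h6]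
      · have h6 : (g * h) • R.b = y := by rw [mul_smul, h4, smul_inv_smul]
        rw [← R.map_smul, h6]
  obtain ⟨g, hg1, hg2⟩ := key ha hb hn
  obtain ⟨k, hk1, hk2⟩ := key ha' hb' hn'
  refine ⟨k * g⁻¹, ?_, ?_⟩
  · rw [← hk1, ← hg1]; group
  · rw [← hk2, ← hg2]; group

theorem lk_sieve {p : ℕ} (h : UG.testBit p = true)
    (hx : ∀ x : Gen, x = .b ∨ x = .c ∨ x = .d ∨ x = .e ∨ x = .f ∨ x = .g ∨ x = .j ∨ x = .h ∨ x = .i →
      rho (gen x) p = p) : p = 0 ∨ p = 307840 ∨ p = 307872 := by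
  have h1 := sieve_lk
  simp only [seqB_eq] at h1
  have h2 : p ∈ [0, 307840, 307872] := by
    rw [← testBit_msk, ← Nat.eq_of_beq_eq_true h1]
    exact sv_spec (wok _ _) bl (sv_spec (wok _ _) bl (sv_spec (wok _ _) bl (sv_spec (wok _ _) bl
      (sv_spec (wok _ _) bl (sv_spec (wok _ _) bl (sv_spec (wok _ _) bl (sv_spec (wok _ _) bl (sv_spec (wok _ _) bl
        h (e_word (hx _ (by simp)))) (e_word (hx _ (by simp)))) (e_word (hx _ (by simp)))) (e_word (hx _ (by simp))))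
        (e_word (hx _ (by simp)))) (e_word (hx _ (by simp)))) (e_word (hx _ (by simp)))) (e_word (hx _ (by simp))))
        (e_word (hx _ (by simp)))
  simpa using h2

/-- a transposition inverting `d b` commutes with the transpositions commuting with `d` and `b` -/
theorem comm_of_inv {d b t z : Fi24} (hd : d ∈ L) (hb : b ∈ L) (ht : t ∈ L) (hz : z ∈ L) (hn : ¬ Commute d b)
    (hzd : Commute z d) (hzb : Commute z b) (hi : t * (d * b) * t⁻¹ = (d * b)⁻¹) : Commute z t := by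
  by_contra hc
  have hz2 := Cfsg.Agent.R08.FiTwentyFour.sq hz
  have ht2 := Cfsg.Agent.R08.FiTwentyFour.sq ht
  have hd2 := Cfsg.Agent.R08.FiTwentyFour.sq hd
  have hb2 := Cfsg.Agent.R08.FiTwentyFour.sq hb
  have hbr := (Cfsg.Agent.R08.FiTwentyFour.three hz ht).resolve_left hc
  have h3 : (z * t) ^ 3 = 1 := by
    calc (z * t) ^ 3 = (z * t * z) * (t * z * t) := by simp only [pow_succ, pow_zero, one_mul, mul_assoc]
      _ = (z * t * z) * (z * t * z) := by rw [hbr]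
      _ = z * t * (z * z) * t * z := by simp only [mul_assoc]
      _ = z * (t * t) * z := by rw [hz2, mul_one]; simp only [mul_assoc]
      _ = 1 := by rw [ht2, mul_one, hz2]
  have hzu : Commute z (d * b) := hzd.mul_right hzb
  set u := d * b with hu
  have h4 : (z * t) * u * (z * t)⁻¹ = u⁻¹ := by
    calc (z * t) * u * (z * t)⁻¹ = z * (t * u * t⁻¹) * z⁻¹ := by group
      _ = z * u⁻¹ * z⁻¹ := by rw [hi]
      _ = u⁻¹ := by rw [hzu.inv_right.eq, mul_inv_cancel_right]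
  have h5 : ∀ v : Fi24, (z * t) * v⁻¹ * (z * t)⁻¹ = ((z * t) * v * (z * t)⁻¹)⁻¹ := fun v => by group
  have h6 : u = u⁻¹ := by
    calc u = (z * t) ^ 3 * u * ((z * t) ^ 3)⁻¹ := by rw [h3]; group
      _ = (z * t) * ((z * t) * ((z * t) * u * (z * t)⁻¹) * (z * t)⁻¹) * (z * t)⁻¹ := by
          simp only [pow_succ, pow_zero, one_mul]; group
      _ = u⁻¹ := by rw [h4, h5, h4, inv_inv, h4]
  apply hn
  show d * b = b * d
  rw [← hu, h6, hu, mul_inv_rev, inv_eq_of_mul_eq_one_left hd2, inv_eq_of_mul_eq_one_left hb2]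

/-- **Three transpositions invert `d b`.** -/
theorem inv3 {d b t : Fi24} (hd : d ∈ L) (hb : b ∈ L) (ht : t ∈ L) (hn : ¬ Commute d b)
    (hi : t * (d * b) * t⁻¹ = (d * b)⁻¹) : t = d ∨ t = b ∨ t = d * b * d := by
  have hlk : ¬ Commute (gen .l) (gen .k) := by
    intro h
    have h1 : rho (gen .l) 307872 = 307872 := ((isPt_gen .k).comm_iff _).1 h
    have h2 : chkPt (nw [.l] false) 307872 307840 = true := by decide +kernel
    have h3 := rho_of_chkPt h2
    rw [word_one'] at h3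
    rw [h1] at h3
    exact absurd h3 (by norm_num)
  obtain ⟨g, hg1, hg2⟩ := noncomm_trans hd hb (gen_mem .l) (gen_mem .k) hn hlk
  have ht' := Cfsg.Agent.R08.FiTwentyFour.conj ht g
  have hi' : (g * t * g⁻¹) * (gen .l * gen .k) * (g * t * g⁻¹)⁻¹ = (gen .l * gen .k)⁻¹ := by
    rw [← hg1, ← hg2]
    calc (g * t * g⁻¹) * (g * d * g⁻¹ * (g * b * g⁻¹)) * (g * t * g⁻¹)⁻¹ = g * (t * (d * b) * t⁻¹) * g⁻¹ := by group
      _ = g * (d * b)⁻¹ * g⁻¹ := by rw [hi]
      _ = (g * d * g⁻¹ * (g * b * g⁻¹))⁻¹ := by group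
  obtain ⟨p, hp⟩ := exists_pt ht'
  have hfix : ∀ x : Gen, x = .b ∨ x = .c ∨ x = .d ∨ x = .e ∨ x = .f ∨ x = .g ∨ x = .j ∨ x = .h ∨ x = .i →
      rho (gen x) p = p := by
    intro x hx
    rw [← hp.comm_iff]
    have c : ∀ x : Gen, x = .b ∨ x = .c ∨ x = .d ∨ x = .e ∨ x = .f ∨ x = .g ∨ x = .j ∨ x = .h ∨ x = .i →
        Commute (gen x) (gen .l) ∧ Commute (gen x) (gen .k) := by
      have c1 : ∀ x : Gen, x = .b ∨ x = .c ∨ x = .d ∨ x = .e ∨ x = .f ∨ x = .g ∨ x = .j ∨ x = .h ∨ x = .i →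
          chkPt (nw [x] false) 0 0 = true ∧ chkPt (nw [x] false) 307872 307872 = true := by
        rintro x (rfl | rfl | rfl | rfl | rfl | rfl | rfl | rfl | rfl) <;> constructor <;> decide +kernel
      intro x hx
      obtain ⟨a1, a2⟩ := c1 x hx
      have a3 := rho_of_chkPt a1
      have a4 := rho_of_chkPt a2
      rw [word_one'] at a3 a4
      exact ⟨((isPt_gen .l).comm_iff _).2 a3, ((isPt_gen .k).comm_iff _).2 a4⟩
    exact comm_of_inv (gen_mem .l) (gen_mem .k) ht' (gen_mem x) hlk (c x hx).1 (c x hx).2 hi'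
  have h1 := lk_sieve (bit hp) hfix
  have back : ∀ v w : Fi24, g * t * g⁻¹ = g * w * g⁻¹ → t = w := by
    intro _ w h
    exact mul_left_cancel (mul_right_cancel h)
  rcases h1 with rfl | rfl | rfl
  · left
    apply back 1
    rw [hg1]
    exact hp.inj (isPt_gen .l)
  · right; right
    apply back 1
    have h2 : IsPt (gen .l * gen .k * (gen .l)⁻¹) 307840 := by
      apply (isPt_gen .k).conj'
      have h2 : chkPt (nw [.l] false) 307872 307840 = true := by decide +kernel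
      have h3 := rho_of_chkPt h2
      rwa [word_one'] at h3
    have h3 : g * (d * b * d) * g⁻¹ = gen .l * gen .k * (gen .l)⁻¹ := by
      have h4 : (gen .l)⁻¹ = gen .l := inv_eq_of_mul_eq_one_left (Cfsg.Agent.R08.FiTwentyFour.sq (gen_mem .l))
      rw [h4, ← hg1, ← hg2]
      group
    rw [h3]
    exact hp.inj h2
  · right; left
    apply back 1
    rw [hg2]
    exact hp.inj (isPt_gen .k)

end Cfsg.Agent.H841.Inv3
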