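import Cfsg.Agent.H841.SevK
import Cfsg.Agent.H841.Phi

/-!
# `Fi24`: an elementary abelian subgroup of order `3^7` (helper841)

`vec : (Fin 7 → ZMod 3) → Fi24`, `act : tv j * vec v * (tv j)⁻¹ = vec (rf j v)`, `rf j` the reflection with centre `cen j`.
-/

set_option autoImplicit false
set_option maxRecDepth 100000

namespace Cfsg.Agent.H841.Sev

open Cfsg Cfsg.Agent.Lib.PermNet Cfsg.Agent.Lib.PermNetPt Cfsg.Agent.Fischer.Fi24RepDef Cfsg.Agent.Fischer.Fi24Rep
open Cfsg.Agent.Fischer.Fi24Spider (word_append word_cons word_nil gword gen_conj)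
open Cfsg.Agent.R08.FiTwentyFour (L)
open Cfsg.Agent.KFacts.FiTF.Pts Cfsg.Agent.KFacts.FiTF.FixMask
open Cfsg.Agent.KFacts.FiTF.Defs (tr)
open Cfsg.Agent.LThreeFi24.SNineK Cfsg.Agent.LThreeFi24.SNine
open Cfsg.Agent.LThreeFi24.FiveConj (eqB eq_of_eqB)
open Cfsg.Agent.H841.SevK Cfsg.Agent.H841.Five
open Cfsg.Spor (Fi24)
open Cfsg.Spor.Fi24 (Gen)

/-- the vectors -/
abbrev V := Fin 7 → ZMod 3

theorem w1 (x : Gen) : word [x] = gen x := by rw [word_cons, word_nil, mul_one]

theorem gL (x : Gen) : gen x ∈ L := Cfsg.Agent.R08.FiTwentyFour.gen_mem_L x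

theorem gsq (x : Gen) : gen x * gen x = 1 := Cfsg.Agent.R08.FiTwentyFour.sq (gL x)

theorem ginv (x : Gen) : (gen x)⁻¹ = gen x := inv_eq_of_mul_eq_one_left (gsq x)

/-- the words of the generators of `A` -/
def aw : Fin 7 → List Gen := ![a0, a1, a2, a3, a4, a5, a6]

/-- the generators of `A` -/
noncomputable def av (i : Fin 7) : Fi24 := word (aw i)

/-- the words of the eight transpositions -/
def tw : Fin 8 → List Gen := ![[.j], [.e], [.i], [.l], [.k], [.a], [.b], t7]

/-- the eight transpositions -/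
noncomputable def tv (j : Fin 8) : Fi24 := word (tw j)

theorem word_t7 : word t7 = word u7 * gen .l * (word u7)⁻¹ := by
  unfold t7
  rw [word_append, word_cons, word_reverse]
  group

theorem tv_mem (j : Fin 8) : tv j ∈ L := by
  have h : ∀ x : Gen, word [x] ∈ L := fun x => by rw [w1]; exact gL x
  fin_cases j
  · exact h .j
  · exact h .e
  · exact h .i
  · exact h .l
  · exact h .k
  · exact h .a
  · exact h .b
  · show word t7 ∈ L
    rw [word_t7]
    exact Cfsg.Agent.R08.FiTwentyFour.conj (gL .l) _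

theorem tv_sq (j : Fin 8) : tv j * tv j = 1 := Cfsg.Agent.R08.FiTwentyFour.sq (tv_mem j)

theorem tv_inv (j : Fin 8) : (tv j)⁻¹ = tv j := inv_eq_of_mul_eq_one_left (tv_sq j)

theorem word_y (w : List Gen) : word ([.l, .k, .a, .b] ++ (w ++ [.b, .a, .k, .l])) = y0 * word w * y0⁻¹ := by
  rw [word_append, word_append, ← mul_assoc]
  show y0 * word w * word ([.l, .k, .a, .b] : List Gen).reverse = _
  rw [word_reverse]
  rfl

theorem av4 : av 4 = y0 * av 3 * y0⁻¹ := word_y a3
theorem av5 : av 5 = y0 * av 4 * y0⁻¹ := word_y a4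
theorem av6 : av 6 = y0 * av 5 * y0⁻¹ := word_y a5

theorem cube_of {w : List Gen} (h : eqB (w ++ w ++ w) [] = true) : word w ^ 3 = 1 := by
  have h1 := eq_of_eqB h
  rw [word_append, word_append, word_nil] at h1
  rw [pow_succ, pow_two]
  exact h1

theorem comm_of {w v : List Gen} (h : eqB (w ++ v) (v ++ w) = true) : Commute (word w) (word v) := by
  have h1 := eq_of_eqB h
  rwa [word_append, word_append] at h1

/-! ### Elements of `S₉` -/

theorem mem_S9_word {w : List Gen} (h : ∀ x ∈ w, x = Gen.j ∨ x = .g ∨ x = .f ∨ x = .e ∨ x = .d ∨ x = .h ∨ x = .i) :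
    word w ∈ S9 := by
  induction w with
  | nil => rw [word_nil]; exact one_mem _
  | cons x w ih =>
    rw [word_cons]
    refine mul_mem ?_ (ih fun y hy => h y (List.mem_cons_of_mem _ hy))
    rw [← w1]
    rcases h x List.mem_cons_self with rfl | rfl | rfl | rfl | rfl | rfl | rfl
    · exact s_mem 0
    · exact s_mem 1
    · exact s_mem 2
    · exact s_mem 3
    · exact s_mem 4
    · exact s_mem 5
    · exact s_mem 6

theorem a2_mem : word a2 ∈ S9 := by
  unfold a2
  rw [word_cons, ← w1]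
  exact mul_mem (s_mem 6) (s_mem 7)

theorem a0_mem : word a0 ∈ S9 := mem_S9_word (by unfold a0; simp)

theorem a1_mem : word a1 ∈ S9 := mem_S9_word (by unfold a1; simp)

theorem comm_y0 {g : Fi24} (hg : g ∈ S9) : Commute g y0 := S9_comm_y0 hg

theorem conj_y0 {g h : Fi24} (hg : Commute g y0) (h1 : Commute g h) : Commute g (y0 * h * y0⁻¹) :=
  (hg.mul_right h1).mul_right hg.inv_right

theorem cj_y0 {g h : Fi24} (h1 : Commute g h) : Commute (y0 * g * y0⁻¹) (y0 * h * y0⁻¹) := by
  show y0 * g * y0⁻¹ * (y0 * h * y0⁻¹) = y0 * h * y0⁻¹ * (y0 * g * y0⁻¹)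
  calc y0 * g * y0⁻¹ * (y0 * h * y0⁻¹) = y0 * (g * h) * y0⁻¹ := by group
    _ = y0 * (h * g) * y0⁻¹ := by rw [h1.eq]
    _ = _ := by group

theorem y_small {i : Fin 7} (hi : i = 0 ∨ i = 1 ∨ i = 2) : Commute (av i) y0 := by
  rcases hi with rfl | rfl | rfl
  · exact comm_y0 a0_mem
  · exact comm_y0 a1_mem
  · exact comm_y0 a2_mem

theorem c03 : Commute (av 0) (av 3) := comm_of com03
theorem c13 : Commute (av 1) (av 3) := comm_of com13
theorem c23 : Commute (av 2) (av 3) := comm_of com23
theorem c34 : Commute (av 3) (av 4) := comm_of com34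
theorem c35 : Commute (av 3) (av 5) := comm_of com35
theorem c36 : Commute (av 3) (av 6) := comm_of com36

theorem av_comm (i j : Fin 7) : Commute (av i) (av j) := by
  have c45 : Commute (av 4) (av 5) := by
    have h := cj_y0 c34
    rwa [← av4, ← av5] at h
  have c46 : Commute (av 4) (av 6) := by
    have h := cj_y0 c35
    rwa [← av4, ← av6] at h
  have c56 : Commute (av 5) (av 6) := by
    have h := cj_y0 c45
    rwa [← av5, ← av6] at h
  have up : ∀ i : Fin 7, (i = 0 ∨ i = 1 ∨ i = 2) → Commute (av i) (av 3) →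
      Commute (av i) (av 4) ∧ Commute (av i) (av 5) ∧ Commute (av i) (av 6) := by
    intro i hi h3
    have h4 : Commute (av i) (av 4) := by rw [av4]; exact conj_y0 (y_small hi) h3
    have h5 : Commute (av i) (av 5) := by rw [av5]; exact conj_y0 (y_small hi) h4
    exact ⟨h4, h5, by rw [av6]; exact conj_y0 (y_small hi) h5⟩
  obtain ⟨c04, c05, c06⟩ := up 0 (by simp) c03
  obtain ⟨c14, c15, c16⟩ := up 1 (by simp) c13
  obtain ⟨c24, c25, c26⟩ := up 2 (by simp) c23
  have c01 : Commute (av 0) (av 1) := comm_of com01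
  have c02 : Commute (av 0) (av 2) := comm_of com02
  have c12 : Commute (av 1) (av 2) := comm_of com12
  have h03 := c03
  have h13 := c13
  have h23 := c23
  have h34 := c34
  have h35 := c35
  have h36 := c36
  fin_cases i <;> fin_cases j <;> first | exact Commute.refl _ | assumption | (apply Commute.symm; assumption)

theorem av_cube (i : Fin 7) : av i ^ 3 = 1 := by
  have h3 : av 3 ^ 3 = 1 := cube_of cube3
  have h4 : av 4 ^ 3 = 1 := by rw [av4, conj_pow, h3]; group
  have h5 : av 5 ^ 3 = 1 := by rw [av5, conj_pow, h4]; group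
  have h6 : av 6 ^ 3 = 1 := by rw [av6, conj_pow, h5]; group
  fin_cases i
  · exact cube_of cube0
  · exact cube_of cube1
  · exact cube_of cube2
  · exact h3
  · exact h4
  · exact h5
  · exact h6

/-! ### The homomorphism -/

/-- the homomorphism of `ZMod 3` -/
def pz (g : Fi24) (h : g ^ 3 = 1) : Multiplicative (ZMod 3) →* Fi24 where
  toFun x := g ^ (Multiplicative.toAdd x).val
  map_one' := by
    show g ^ (0 : ZMod 3).val = 1
    rw [ZMod.val_zero, pow_zero]
  map_mul' x y := by
    show g ^ (Multiplicative.toAdd x + Multiplicative.toAdd y).val = _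
    rw [← pow_add, ZMod.val_add]
    exact (pow_eq_pow_mod _ h).symm

theorem pz_comm {g h : Fi24} (hg : g ^ 3 = 1) (hh : h ^ 3 = 1) (hc : Commute g h) (x y : Multiplicative (ZMod 3)) :
    Commute (pz g hg x) (pz h hh y) := hc.pow_pow _ _

theorem pzc : Pairwise fun i j => ∀ (x y : Multiplicative (ZMod 3)), Commute (pz (av i) (av_cube i) x) (pz (av j) (av_cube j) y) :=
  fun i j _ x y => pz_comm _ _ (av_comm i j) x y

/-- the homomorphism -/
noncomputable def vecH : ((_ : Fin 7) → Multiplicative (ZMod 3)) →* Fi24 :=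
  MonoidHom.noncommPiCoprod (fun i => pz (av i) (av_cube i)) pzc

/-- the elements of `A` -/
noncomputable def vec (v : V) : Fi24 := vecH fun i => Multiplicative.ofAdd (v i)

theorem vec_add (v w : V) : vec (v + w) = vec v * vec w := by
  unfold vec
  rw [← map_mul]
  rfl

theorem vec_zero : vec 0 = 1 := by
  unfold vec
  exact map_one vecH

theorem vec_single (i : Fin 7) (x : ZMod 3) : vec (Pi.single i x) = av i ^ x.val := by
  have h : (fun k => Multiplicative.ofAdd ((Pi.single i x : V) k)) = Pi.mulSingle i (Multiplicative.ofAdd x) := by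
    ext k
    by_cases hk : k = i
    · subst hk
      simp
    · simp [hk]
  unfold vec
  rw [h]
  exact MonoidHom.noncommPiCoprod_mulSingle (hcomm := pzc) (fun i => pz (av i) (av_cube i)) i _

theorem vec_single_one (i : Fin 7) : vec (Pi.single i 1) = av i := by
  rw [vec_single]
  exact pow_one _

theorem vec_comm (v w : V) : Commute (vec v) (vec w) := by
  show vec v * vec w = vec w * vec v
  rw [← vec_add, ← vec_add, add_comm]

theorem vec_neg (v : V) : vec (-v) = (vec v)⁻¹ := by
  rw [eq_inv_iff_mul_eq_one, ← vec_add, neg_add_cancel, vec_zero]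

theorem vec_sub (v w : V) : vec (v - w) = vec v * (vec w)⁻¹ := by
  rw [sub_eq_add_neg, vec_add, vec_neg]

theorem vec_nsmul (n : ℕ) (v : V) : vec (n • v) = vec v ^ n := by
  induction n with
  | zero => rw [zero_nsmul, vec_zero, pow_zero]
  | succ n ih => rw [succ_nsmul, vec_add, ih, pow_succ]

theorem vec_smul (x : ZMod 3) (v : V) : vec (x • v) = vec v ^ x.val := by
  rw [← vec_nsmul]
  congr 1
  rw [← Nat.cast_smul_eq_nsmul (ZMod 3), ZMod.natCast_zmod_val]

theorem vec_cube (v : V) : vec v ^ 3 = 1 := by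
  rw [← vec_nsmul]
  have h : (3 : ℕ) • v = 0 := by
    rw [← Nat.cast_smul_eq_nsmul (ZMod 3)]
    have h3 : ((3 : ℕ) : ZMod 3) = 0 := by decide
    rw [h3, zero_smul]
  rw [h, vec_zero]

/-- induction on vectors -/
theorem V_ind {P : V → Prop} (h0 : P 0) (ha : ∀ v w, P v → P w → P (v + w)) (h1 : ∀ i, P (Pi.single i 1)) (v : V) :
    P v := by
  have hs : ∀ (i : Fin 7) (n : ℕ), P (n • (Pi.single i 1 : V)) := by
    intro i n
    induction n with
    | zero => rw [zero_nsmul]; exact h0
    | succ n ih => rw [succ_nsmul]; exact ha _ _ ih (h1 i)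
  have h2 : ∀ (i : Fin 7) (x : ZMod 3), P (Pi.single i x) := by
    intro i x
    have h := hs i x.val
    rw [← Nat.cast_smul_eq_nsmul (ZMod 3), ZMod.natCast_zmod_val, ← Pi.single_smul, smul_eq_mul, mul_one] at h
    exact h
  have h3 : v = ∑ i, Pi.single i (v i) := (Finset.univ_sum_single v).symm
  rw [h3]
  exact Finset.sum_induction _ P ha h0 fun i _ => h2 i _

/-! ### The form -/

/-- the polar form -/
def Bf (v w : V) : ZMod 3 := 2 * v 0 * w 0 + 2 * v 1 * w 1 + 2 * v 2 * w 2 + 2 * v 3 * w 3 + 2 * v 4 * w 4 +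
  2 * v 5 * w 5 + 2 * v 6 * w 6 - (v 3 * w 4 + v 4 * w 3) - (v 4 * w 5 + v 5 * w 4) - (v 5 * w 6 + v 6 * w 5)

/-- the quadratic form -/
def Qf (v : V) : ZMod 3 := v 0 ^ 2 + v 1 ^ 2 + v 2 ^ 2 + v 3 ^ 2 + v 4 ^ 2 + v 5 ^ 2 + v 6 ^ 2 - v 3 * v 4 -
  v 4 * v 5 - v 5 * v 6

theorem Bf_add_left (u v w : V) : Bf (u + v) w = Bf u w + Bf v w := by
  simp only [Bf, Pi.add_apply]; ring

theorem Bf_add_right (u v w : V) : Bf u (v + w) = Bf u v + Bf u w := by
  simp only [Bf, Pi.add_apply]; ring

theorem Bf_smul_left (c : ZMod 3) (v w : V) : Bf (c • v) w = c * Bf v w := by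
  simp only [Bf, Pi.smul_apply, smul_eq_mul]; ring

theorem Bf_smul_right (c : ZMod 3) (v w : V) : Bf v (c • w) = c * Bf v w := by
  simp only [Bf, Pi.smul_apply, smul_eq_mul]; ring

theorem Bf_comm (v w : V) : Bf v w = Bf w v := by
  simp only [Bf]; ring

theorem Qf_add (v w : V) : Qf (v + w) = Qf v + Qf w + Bf v w := by
  simp only [Qf, Bf, Pi.add_apply]; ring

theorem Qf_smul (c : ZMod 3) (v : V) : Qf (c • v) = c * c * Qf v := by
  simp only [Qf, Pi.smul_apply, smul_eq_mul]; ring

theorem Bf_self (v : V) : Bf v v = 2 * Qf v := by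
  simp only [Qf, Bf]; ring

/-- the centres of the eight reflections -/
def cen (j : Fin 8) : V := if h : j.val < 7 then Pi.single ⟨j.val, h⟩ 1 else ![1, 2, 1, 2, 2, 2, 0]

/-- the reflection with centre `c` -/
def rc (c v : V) : V := v - Bf v c • c

/-- the eight reflections -/
def rf (j : Fin 8) (v : V) : V := rc (cen j) v

theorem rc_add (c v w : V) : rc c (v + w) = rc c v + rc c w := by
  unfold rc
  rw [Bf_add_left, add_smul]
  abel

theorem rc_smul (c : V) (x : ZMod 3) (v : V) : rc c (x • v) = x • rc c v := by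
  unfold rc
  rw [Bf_smul_left, smul_sub, mul_smul]

theorem rc_zero (c : V) : rc c 0 = 0 := by
  have h := rc_smul c 0 0
  rwa [zero_smul, zero_smul] at h

theorem rc_neg (c v : V) : rc c (-v) = -rc c v := by
  have h := rc_smul c (-1) v
  rwa [neg_one_smul, neg_one_smul] at h

theorem Bf_rc {c : V} (hc : Qf c = 1) (v w : V) : Bf (rc c v) (rc c w) = Bf v w := by
  have h : ∀ x y : V, rc x y = y + (-Bf y x) • x := fun x y => by unfold rc; rw [neg_smul, sub_eq_add_neg]
  rw [h, h, Bf_add_left, Bf_add_right, Bf_add_right, Bf_smul_left, Bf_smul_right, Bf_smul_left, Bf_smul_right, Bf_self,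
    hc, Bf_comm c w]
  ring

theorem Qf_rc {c : V} (hc : Qf c = 1) (v : V) : Qf (rc c v) = Qf v := by
  have h2 : ∀ x y : ZMod 3, 2 * x = 2 * y → x = y := by decide
  apply h2
  rw [← Bf_self, ← Bf_self, Bf_rc hc]

theorem rc_rc {c : V} (hc : Qf c = 1) (v : V) : rc c (rc c v) = v := by
  have h1 : Bf (rc c v) c = -Bf v c := by
    have h : rc c v = v + (-Bf v c) • c := by unfold rc; rw [neg_smul, sub_eq_add_neg]
    rw [h, Bf_add_left, Bf_smul_left, Bf_self, hc]
    ring
  have h2 : rc c (rc c v) = rc c v - Bf (rc c v) c • c := rfl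
  rw [h2, h1]
  unfold rc
  rw [neg_smul]
  abel

theorem Qf_cen (j : Fin 8) : Qf (cen j) = 1 := by
  revert j; decide

end Cfsg.Agent.H841.Sev
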