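import Cfsg.Agent.H841.SevC

/-!
# Transitivity of the realized reflections on the vectors of given norm (helper841)
-/

set_option autoImplicit false
set_option maxRecDepth 100000

namespace Cfsg.Agent.H841.Sev

open Cfsg.Agent.Lib.PermNet (seq seqB seq_eq seqB_eq)

theorem dg_eq (p c : ℕ) : dg p c = c / p % 3 := rfl

theorem val3 (x : ZMod 3) : x.val < 3 := x.val_lt

section

variable (v : V)

theorem dg1 : dg 1 (enc v) = (v 0).val := by
  have := val3 (v 0)
  rw [dg_eq]; unfold enc; omega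
theorem dg3 : dg 3 (enc v) = (v 1).val := by
  have := val3 (v 0); have := val3 (v 1)
  rw [dg_eq]; unfold enc; omega
theorem dg9 : dg 9 (enc v) = (v 2).val := by
  have := val3 (v 0); have := val3 (v 1); have := val3 (v 2)
  rw [dg_eq]; unfold enc; omega
theorem dg27 : dg 27 (enc v) = (v 3).val := by
  have := val3 (v 0); have := val3 (v 1); have := val3 (v 2); have := val3 (v 3)
  rw [dg_eq]; unfold enc; omega
theorem dg81 : dg 81 (enc v) = (v 4).val := by
  have := val3 (v 0); have := val3 (v 1); have := val3 (v 2); have := val3 (v 3); have := val3 (v 4)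
  rw [dg_eq]; unfold enc; omega
theorem dg243 : dg 243 (enc v) = (v 5).val := by
  have := val3 (v 0); have := val3 (v 1); have := val3 (v 2); have := val3 (v 3); have := val3 (v 4)
  have := val3 (v 5)
  rw [dg_eq]; unfold enc; omega
theorem dg729 : dg 729 (enc v) = (v 6).val := by
  have := val3 (v 0); have := val3 (v 1); have := val3 (v 2); have := val3 (v 3); have := val3 (v 4)
  have := val3 (v 5); have := val3 (v 6)
  rw [dg_eq]; unfold enc; omega

end

theorem rf0 (v : V) : rf 0 v = ![-v 0, v 1, v 2, v 3, v 4, v 5, v 6] := by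
  ext i; fin_cases i <;> (simp [rf, rc, cen, Bf]; try ring)
theorem rf1 (v : V) : rf 1 v = ![v 0, -v 1, v 2, v 3, v 4, v 5, v 6] := by
  ext i; fin_cases i <;> (simp [rf, rc, cen, Bf]; try ring)
theorem rf2 (v : V) : rf 2 v = ![v 0, v 1, -v 2, v 3, v 4, v 5, v 6] := by
  ext i; fin_cases i <;> (simp [rf, rc, cen, Bf]; try ring)
theorem rf3 (v : V) : rf 3 v = ![v 0, v 1, v 2, -v 3 + v 4, v 4, v 5, v 6] := by
  ext i; fin_cases i <;> (simp [rf, rc, cen, Bf]; try ring)
theorem rf4 (v : V) : rf 4 v = ![v 0, v 1, v 2, v 3, -v 4 + v 3 + v 5, v 5, v 6] := by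
  ext i; fin_cases i <;> (simp [rf, rc, cen, Bf]; try ring)
theorem rf5 (v : V) : rf 5 v = ![v 0, v 1, v 2, v 3, v 4, -v 5 + v 4 + v 6, v 6] := by
  ext i; fin_cases i <;> (simp [rf, rc, cen, Bf]; try ring)
theorem rf6 (v : V) : rf 6 v = ![v 0, v 1, v 2, v 3, v 4, v 5, -v 6 + v 5] := by
  ext i; fin_cases i <;> (simp [rf, rc, cen, Bf]; try ring)

theorem val_a : ∀ a : ZMod 3, (-a).val = 2 * a.val % 3 := by decide
theorem val_b : ∀ a b : ZMod 3, (-a + b).val = (2 * a.val + b.val) % 3 := by decide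
theorem val_c : ∀ a b c : ZMod 3, (-a + b + c).val = (2 * a.val + (b.val + c.val)) % 3 := by decide

theorem rp_eq (p c d : ℕ) : rp p c d = c - p * dg p c + p * (d % 3) := rfl

theorem g0_eq (v : V) : g0 (enc v) = enc (rf 0 v) := by
  rw [rf0]
  unfold g0
  rw [rp_eq, dg1]
  show _ = (-v 0).val + 3 * (v 1).val + 9 * (v 2).val + 27 * (v 3).val + 81 * (v 4).val + 243 * (v 5).val + 729 * (v 6).val
  rw [val_a]
  show enc v - 1 * (v 0).val + 1 * (2 * (v 0).val % 3) = _
  unfold enc
  omega
theorem g1_eq (v : V) : g1 (enc v) = enc (rf 1 v) := by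
  rw [rf1]
  unfold g1
  rw [rp_eq, dg3]
  show _ = (v 0).val + 3 * (-v 1).val + 9 * (v 2).val + 27 * (v 3).val + 81 * (v 4).val + 243 * (v 5).val + 729 * (v 6).val
  rw [val_a]
  show enc v - 3 * (v 1).val + 3 * (2 * (v 1).val % 3) = _
  unfold enc
  omega
theorem g2_eq (v : V) : g2 (enc v) = enc (rf 2 v) := by
  rw [rf2]
  unfold g2
  rw [rp_eq, dg9]
  show _ = (v 0).val + 3 * (v 1).val + 9 * (-v 2).val + 27 * (v 3).val + 81 * (v 4).val + 243 * (v 5).val + 729 * (v 6).val
  rw [val_a]
  show enc v - 9 * (v 2).val + 9 * (2 * (v 2).val % 3) = _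
  unfold enc
  omega
theorem g3_eq (v : V) : g3 (enc v) = enc (rf 3 v) := by
  rw [rf3]
  unfold g3
  rw [rp_eq, dg27, dg81]
  show _ = (v 0).val + 3 * (v 1).val + 9 * (v 2).val + 27 * (-v 3 + v 4).val + 81 * (v 4).val + 243 * (v 5).val + 729 * (v 6).val
  rw [val_b]
  show enc v - 27 * (v 3).val + 27 * ((2 * (v 3).val + (v 4).val) % 3) = _
  unfold enc
  omega
theorem g4_eq (v : V) : g4 (enc v) = enc (rf 4 v) := by
  rw [rf4]
  unfold g4
  rw [rp_eq, dg81, dg27, dg243]
  show _ = (v 0).val + 3 * (v 1).val + 9 * (v 2).val + 27 * (v 3).val + 81 * (-v 4 + v 3 + v 5).val + 243 * (v 5).val + 729 * (v 6).val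
  rw [val_c]
  show enc v - 81 * (v 4).val + 81 * ((2 * (v 4).val + ((v 3).val + (v 5).val)) % 3) = _
  unfold enc
  omega
theorem g5_eq (v : V) : g5 (enc v) = enc (rf 5 v) := by
  rw [rf5]
  unfold g5
  rw [rp_eq, dg243, dg81, dg729]
  show _ = (v 0).val + 3 * (v 1).val + 9 * (v 2).val + 27 * (v 3).val + 81 * (v 4).val + 243 * (-v 5 + v 4 + v 6).val + 729 * (v 6).val
  rw [val_c]
  show enc v - 243 * (v 5).val + 243 * ((2 * (v 5).val + ((v 4).val + (v 6).val)) % 3) = _
  unfold enc
  omega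
theorem g6_eq (v : V) : g6 (enc v) = enc (rf 6 v) := by
  rw [rf6]
  unfold g6
  rw [rp_eq, dg729, dg243]
  show _ = (v 0).val + 3 * (v 1).val + 9 * (v 2).val + 27 * (v 3).val + 81 * (v 4).val + 243 * (v 5).val + 729 * (-v 6 + v 5).val
  rw [val_b]
  show enc v - 729 * (v 6).val + 729 * ((2 * (v 6).val + (v 5).val) % 3) = _
  unfold enc
  omega

theorem rf7 (v : V) : rf 7 v = ![v 0 + -Bf v (cen 7), v 1 + 2 * -Bf v (cen 7), v 2 + -Bf v (cen 7),
    v 3 + 2 * -Bf v (cen 7), v 4 + 2 * -Bf v (cen 7), v 5 + 2 * -Bf v (cen 7), v 6] := by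
  have h : cen 7 = ![1, 2, 1, 2, 2, 2, 0] := rfl
  ext i
  fin_cases i
  · show v 0 - Bf v (cen 7) * 1 = _
    simp; ring
  · show v 1 - Bf v (cen 7) * 2 = _
    simp; ring
  · show v 2 - Bf v (cen 7) * 1 = _
    simp; ring
  · show v 3 - Bf v (cen 7) * 2 = _
    simp; ring
  · show v 4 - Bf v (cen 7) * 2 = _
    simp; ring
  · show v 5 - Bf v (cen 7) * 2 = _
    simp; ring
  · show v 6 - Bf v (cen 7) * 0 = _
    simp

theorem Bf7 (v : V) : -Bf v (cen 7) = (((v 0).val + (2 * (v 1).val + ((v 2).val + ((v 3).val + ((v 5).val +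
    2 * (v 6).val))))) : ℕ) := by
  push_cast
  simp only [ZMod.natCast_val, ZMod.cast_id', id_eq]
  show -(2 * v 0 * 1 + 2 * v 1 * 2 + 2 * v 2 * 1 + 2 * v 3 * 2 + 2 * v 4 * 2 + 2 * v 5 * 2 + 2 * v 6 * 0 -
    (v 3 * 2 + v 4 * 2) - (v 4 * 2 + v 5 * 2) - (v 5 * 0 + v 6 * 2)) = _
  have h3 : (3 : ZMod 3) = 0 := by decide
  linear_combination (-v 0 - 2 * v 1 - v 2 - v 3 - v 5) * h3

theorem val_d (a : ZMod 3) (m : ℕ) : (a + (m : ZMod 3)).val = (a.val + m) % 3 := by
  rw [ZMod.val_add, ZMod.val_natCast, Nat.add_mod_mod]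

theorem val_e (a : ZMod 3) (m : ℕ) : (a + 2 * (m : ZMod 3)).val = (a.val + 2 * m) % 3 := by
  have h : a + 2 * (m : ZMod 3) = a + ((2 * m : ℕ) : ZMod 3) := by push_cast; ring
  rw [h, val_d]

theorem g7_eq (v : V) : g7 (enc v) = enc (rf 7 v) := by
  rw [rf7, Bf7]
  unfold g7
  rw [seq_eq, dg1, dg3, dg9, dg27, dg81, dg243, dg729]
  set m : ℕ := (v 0).val + (2 * (v 1).val + ((v 2).val + ((v 3).val + ((v 5).val + 2 * (v 6).val)))) with hm
  show _ = (v 0 + (m : ZMod 3)).val + 3 * (v 1 + 2 * (m : ZMod 3)).val + 9 * (v 2 + (m : ZMod 3)).val +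
    27 * (v 3 + 2 * (m : ZMod 3)).val + 81 * (v 4 + 2 * (m : ZMod 3)).val + 243 * (v 5 + 2 * (m : ZMod 3)).val +
    729 * (v 6).val
  rw [val_d, val_d, val_e, val_e, val_e, val_e]
  show ((v 0).val + m) % 3 + (3 * (((v 1).val + 2 * m) % 3) + (9 * (((v 2).val + m) % 3) +
    (27 * (((v 3).val + 2 * m) % 3) + (81 * (((v 4).val + 2 * m) % 3) + (243 * (((v 5).val + 2 * m) % 3) +
    729 * ((v 6).val % 3)))))) = _
  rw [Nat.mod_eq_of_lt (val3 (v 6))]
  ring

theorem sel_eq (j : ℕ) (hj : j < 8) (v : V) : ∃ k : Fin 8, k.val = j ∧ sel j (enc v) = enc (rf k v) := by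
  interval_cases j
  · exact ⟨0, rfl, g0_eq v⟩
  · exact ⟨1, rfl, g1_eq v⟩
  · exact ⟨2, rfl, g2_eq v⟩
  · exact ⟨3, rfl, g3_eq v⟩
  · exact ⟨4, rfl, g4_eq v⟩
  · exact ⟨5, rfl, g5_eq v⟩
  · exact ⟨6, rfl, g6_eq v⟩
  · exact ⟨7, rfl, g7_eq v⟩

/-- `v` is taken to `w` by a product of the reflections `rf j`, `j ∈ S` -/
inductive Path (S : Set (Fin 8)) : V → V → Prop
  | refl (v : V) : Path S v v
  | step (v w : V) (j : Fin 8) (hj : j ∈ S) (h : Path S (rf j v) w) : Path S v w

theorem reach_zero (T : ℕ) (rt : ℕ → Bool) (c : ℕ) : reach T rt 0 c = rt c := rfl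

theorem reach_succ (T : ℕ) (rt : ℕ → Bool) (n c : ℕ) : reach T rt (n + 1) c = true →
    rt c = true ∨ reach T rt n (sel (T >>> (3 * c) &&& 7) c) = true := by
  intro h
  have h1 : reach T rt (n + 1) c = Bool.rec
    (seqB (sel (Nat.land (Nat.shiftRight T (Nat.mul 3 c)) 7) c) (reach T rt n)) true (rt c) := rfl
  rw [h1] at h
  cases hr : rt c with
  | true => exact Or.inl rfl
  | false =>
    rw [hr] at h
    right
    have h2 : seqB (sel (Nat.land (Nat.shiftRight T (Nat.mul 3 c)) 7) c) (reach T rt n) = true := h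
    rw [seqB_eq] at h2
    exact h2

theorem path_of_reach {T : ℕ} {rt : ℕ → Bool} {n : ℕ} {v : V} (h : reach T rt n (enc v) = true) :
    ∃ w : V, rt (enc w) = true ∧ Path Set.univ v w := by
  induction n generalizing v with
  | zero => exact ⟨v, h, Path.refl v⟩
  | succ n ih =>
    rcases reach_succ _ _ _ _ h with h1 | h1
    · exact ⟨v, h1, Path.refl v⟩
    · have h2 : T >>> (3 * enc v) &&& 7 < 8 := lt_of_le_of_lt Nat.and_le_right (by norm_num)
      obtain ⟨k, -, hk⟩ := sel_eq _ h2 v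
      rw [hk] at h1
      obtain ⟨w, hw, hp⟩ := ih h1
      exact ⟨w, hw, Path.step v w k trivial hp⟩

theorem allB_spec {f : ℕ → Bool} {n : ℕ} (h : allB f n = true) : ∀ c < n, f c = true := by
  induction n with
  | zero => intro c hc; omega
  | succ n ih =>
    have h1 : allB f (n + 1) = Bool.rec false (allB f n) (f n) := rfl
    rw [h1] at h
    cases hf : f n with
    | false => rw [hf] at h; exact absurd h (by simp)
    | true =>
      rw [hf] at h
      intro c hc
      rcases Nat.lt_succ_iff_lt_or_eq.1 hc with h2 | rfl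
      · exact ih h c h2
      · exact hf

theorem enc_lt (v : V) : enc v < 2187 := by
  have := val3 (v 0); have := val3 (v 1); have := val3 (v 2); have := val3 (v 3); have := val3 (v 4)
  have := val3 (v 5); have := val3 (v 6)
  unfold enc
  omega

theorem enc_inj {v w : V} (h : enc v = enc w) : v = w := by
  have a0 := val3 (v 0); have a1 := val3 (v 1); have a2 := val3 (v 2); have a3 := val3 (v 3); have a4 := val3 (v 4)
  have a5 := val3 (v 5); have a6 := val3 (v 6)
  have b0 := val3 (w 0); have b1 := val3 (w 1); have b2 := val3 (w 2); have b3 := val3 (w 3); have b4 := val3 (w 4)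
  have b5 := val3 (w 5); have b6 := val3 (w 6)
  unfold enc at h
  ext i
  apply ZMod.val_injective
  fin_cases i
  · show (v 0).val = (w 0).val; omega
  · show (v 1).val = (w 1).val; omega
  · show (v 2).val = (w 2).val; omega
  · show (v 3).val = (w 3).val; omega
  · show (v 4).val = (w 4).val; omega
  · show (v 5).val = (w 5).val; omega
  · show (v 6).val = (w 6).val; omega

theorem Path.trans' {S : Set (Fin 8)} {u v w : V} (h1 : Path S u v) (h2 : Path S v w) : Path S u w := by
  induction h1 with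
  | refl => exact h2
  | step a b j hj h ih => exact Path.step _ _ j hj (ih h2)

theorem rf_rf (j : Fin 8) (v : V) : rf j (rf j v) = v := rc_rc (Qf_cen j) v

theorem Path.symm' {S : Set (Fin 8)} {v w : V} (h : Path S v w) : Path S w v := by
  induction h with
  | refl => exact Path.refl _
  | step a b j hj h ih =>
    refine ih.trans' (Path.step _ _ j hj ?_)
    rw [rf_rf]
    exact Path.refl _

theorem Path.Qf_eq {S : Set (Fin 8)} {v w : V} (h : Path S v w) : Qf v = Qf w := by
  induction h with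
  | refl => rfl
  | step a b j hj h ih => rw [← ih]; exact (Qf_rc (Qf_cen j) a).symm

/-- the representatives -/
def r1 : V := Pi.single 3 1
def y2 : V := Pi.single 0 1 + Pi.single 1 1
def y3 : V := Pi.single 0 1 + Pi.single 1 1 + Pi.single 2 1

theorem Qr1 : Qf r1 = 1 := by decide
theorem Qy2 : Qf y2 = 2 := by decide
theorem Qy3 : Qf y3 = 0 := by decide

theorem er1 : enc r1 = 27 := by decide
theorem ey2 : enc y2 = 4 := by decide
theorem ey3 : enc y3 = 13 := by decide

/-- every nonzero vector is taken to one of the three representatives -/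
theorem path_root (v : V) (hv : v ≠ 0) : Path Set.univ v r1 ∨ Path Set.univ v y2 ∨ Path Set.univ v y3 := by
  have h1 := allB_spec all1 (enc v) (enc_lt v)
  have h0 : Nat.beq (enc v) 0 = false := by
    cases hb : Nat.beq (enc v) 0 with
    | false => rfl
    | true =>
      exfalso
      apply hv
      apply enc_inj
      rw [Nat.eq_of_beq_eq_true hb]
      decide
  unfold chk1 at h1
  rw [h0] at h1
  have h2 : reach T1 rt1 13 (enc v) = true := h1
  obtain ⟨w, hw, hp⟩ := path_of_reach h2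
  unfold rt1 at hw
  cases ha : Nat.beq (enc w) 27 with
  | true =>
    left
    have : w = r1 := enc_inj ((Nat.eq_of_beq_eq_true ha).trans er1.symm)
    exact this ▸ hp
  | false =>
    rw [ha] at hw
    cases hb : Nat.beq (enc w) 4 with
    | true =>
      right; left
      have : w = y2 := enc_inj ((Nat.eq_of_beq_eq_true hb).trans ey2.symm)
      exact this ▸ hp
    | false =>
      rw [hb] at hw
      right; right
      have hc : Nat.beq (enc w) 13 = true := hw
      have : w = y3 := enc_inj ((Nat.eq_of_beq_eq_true hc).trans ey3.symm)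
      exact this ▸ hp

theorem path_one {v : V} (hv : Qf v = 1) : Path Set.univ v r1 := by
  have h0 : v ≠ 0 := by rintro rfl; exact absurd hv (by decide)
  rcases path_root v h0 with h | h | h
  · exact h
  · have := h.Qf_eq
    rw [hv, Qy2] at this
    exact absurd this (by decide)
  · have := h.Qf_eq
    rw [hv, Qy3] at this
    exact absurd this (by decide)

theorem path_two {v : V} (hv : Qf v = 2) : Path Set.univ v y2 := by
  have h0 : v ≠ 0 := by rintro rfl; exact absurd hv (by decide)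
  rcases path_root v h0 with h | h | h
  · have := h.Qf_eq
    rw [hv, Qr1] at this
    exact absurd this (by decide)
  · exact h
  · have := h.Qf_eq
    rw [hv, Qy3] at this
    exact absurd this (by decide)

theorem path_zero {v : V} (h0 : v ≠ 0) (hv : Qf v = 0) : Path Set.univ v y3 := by
  rcases path_root v h0 with h | h | h
  · have := h.Qf_eq
    rw [hv, Qr1] at this
    exact absurd this (by decide)
  · have := h.Qf_eq
    rw [hv, Qy2] at this
    exact absurd this (by decide)
  · exact h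

end Cfsg.Agent.H841.Sev
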