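import Cfsg.Agent.H841.SevF
import Cfsg.Agent.ClassicalGeometry.CartanDieudonne
import Cfsg.Prelude.Def_FischerSpaces

/-!
# The quadratic form on `A` and its isometry group (helper841)

* `polarGramDet QF = 1`, nondegenerate;
* `mem_or` : an isometry `g` or `-g` is in `reflectionSubgroup QF 1`.
-/

set_option autoImplicit false
set_option maxRecDepth 100000

namespace Cfsg.Agent.H841.Sev

open QuadraticMap Matrix
open Cfsg.Agent.ClassicalGeometry.Reflection

/-- the quadratic form -/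
def QF : QuadraticForm (ZMod 3) V where
  toFun := Qf
  toFun_smul c v := Qf_smul c v
  exists_companion' := ⟨LinearMap.mk₂ (ZMod 3) Bf Bf_add_left Bf_smul_left Bf_add_right Bf_smul_right,
    fun v w => Qf_add v w⟩

theorem QF_apply (v : V) : QF v = Qf v := rfl

theorem polar_QF (v w : V) : polar (⇑QF) v w = Bf v w := by
  have h : QF (v + w) = QF v + QF w + Bf v w := Qf_add v w
  unfold polar
  rw [h]
  ring

theorem nondeg : (polarBilin QF).Nondegenerate := by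
  have h : ∀ v : V, (∀ w, polarBilin QF v w = 0) → v = 0 := by
    intro v hv
    apply eq_zero_of_Bf
    intro i
    rw [← polar_QF]
    exact hv _
  refine ⟨h, fun w hw => h w fun v => ?_⟩
  have h1 : polarBilin QF v w = 0 := hw v
  rw [polarBilin_apply_apply] at h1 ⊢
  rw [polar_comm]
  exact h1

/-- the isometry group -/
abbrev O := Cfsg.isometryGroup (ZMod 3) (⇑QF)

/-- the action -/
def ac (h : O) (v : V) : V := ((h : Matrix.GeneralLinearGroup (Fin 7) (ZMod 3)) : Matrix (Fin 7) (Fin 7) (ZMod 3)) *ᵥ v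

theorem ac_mul (g h : O) (v : V) : ac (g * h) v = ac g (ac h v) := coe_mul_mulVec _ g h v

theorem ac_one (v : V) : ac 1 v = v := by
  show (1 : Matrix (Fin 7) (Fin 7) (ZMod 3)) *ᵥ v = v
  exact Matrix.one_mulVec v

theorem ac_ext {g h : O} (H : ∀ v, ac g v = ac h v) : g = h := isometryGroup_ext _ g h H

theorem ac_add (g : O) (v w : V) : ac g (v + w) = ac g v + ac g w := Matrix.mulVec_add _ _ _

theorem ac_smul (g : O) (c : ZMod 3) (v : V) : ac g (c • v) = c • ac g v := Matrix.mulVec_smul _ _ _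

theorem ac_neg (g : O) (v : V) : ac g (-v) = -ac g v := Matrix.mulVec_neg _ _

theorem ac_inv_ac (g : O) (v : V) : ac g⁻¹ (ac g v) = v := by rw [← ac_mul, inv_mul_cancel, ac_one]

theorem ac_ac_inv (g : O) (v : V) : ac g (ac g⁻¹ v) = v := by rw [← ac_mul, mul_inv_cancel, ac_one]

theorem Qf_ac (g : O) (v : V) : Qf (ac g v) = Qf v := (mem_isometryGroup_iff _ _).1 g.2 v

theorem Bf_ac (g : O) (v w : V) : Bf (ac g v) (ac g w) = Bf v w := by
  rw [← polar_QF, ← polar_QF]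
  exact polar_mulVec_of_isometry QF _ ((mem_isometryGroup_iff _ _).1 g.2) v w

theorem ne0_of_one {c : V} (hc : Qf c = 1) : QF c ≠ 0 := by rw [QF_apply, hc]; decide

theorem ne0_of_two {c : V} (hc : Qf c = 2) : QF c ≠ 0 := by rw [QF_apply, hc]; decide

/-- the reflection of norm 1 -/
def R1 (c : V) (hc : Qf c = 1) : O := reflIso QF c (ne0_of_one hc)

theorem ac_R1 (c : V) (hc : Qf c = 1) (v : V) : ac (R1 c hc) v = rc c v := by
  show Cfsg.reflectionMatrix (⇑QF) c *ᵥ v = _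
  rw [reflectionMatrix_mulVec, QF_apply, hc, polar_QF, inv_one, one_mul, Bf_comm]
  rfl

/-- the reflection of norm 2 -/
def R2 (c : V) (hc : Qf c = 2) : O := reflIso QF c (ne0_of_two hc)

theorem ac_R2 (c : V) (hc : Qf c = 2) (v : V) : ac (R2 c hc) v = v + Bf v c • c := by
  show Cfsg.reflectionMatrix (⇑QF) c *ᵥ v = _
  have h2 : ((2 : ZMod 3))⁻¹ = -1 := inv_eq_of_mul_eq_one_right (by decide)
  rw [reflectionMatrix_mulVec, QF_apply, hc, polar_QF, h2, Bf_comm, neg_one_mul, neg_smul, sub_neg_eq_add]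

/-- `-1` -/
def nO : O := ⟨-1, (mem_isometryGroup_iff _ _).2 fun v => by
  rw [Units.val_neg, Units.val_one, Matrix.neg_mulVec, Matrix.one_mulVec, QuadraticMap.map_neg]⟩

theorem ac_nO (v : V) : ac nO v = -v := by
  show ((-1 : Matrix.GeneralLinearGroup (Fin 7) (ZMod 3)) : Matrix (Fin 7) (Fin 7) (ZMod 3)) *ᵥ v = _
  rw [Units.val_neg, Units.val_one, Matrix.neg_mulVec, Matrix.one_mulVec]

theorem nO_comm (g : O) : nO * g = g * nO := by
  apply ac_ext
  intro v
  rw [ac_mul, ac_mul, ac_nO, ac_nO, ac_neg]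

theorem nO_sq : nO * nO = 1 := by
  apply ac_ext
  intro v
  rw [ac_mul, ac_nO, ac_nO, neg_neg, ac_one]

/-- the reflection group -/
abbrev RG : Subgroup O := Cfsg.reflectionSubgroup (⇑QF) 1

theorem R1_mem (c : V) (hc : Qf c = 1) : R1 c hc ∈ RG := Subgroup.subset_closure ⟨c, hc, rfl⟩

theorem RG_le {H : Subgroup O} (h : ∀ c hc, R1 c hc ∈ H) : RG ≤ H := by
  unfold RG Cfsg.reflectionSubgroup
  rw [Subgroup.closure_le]
  rintro g ⟨c, hc, hg⟩
  have h1 : g = R1 c hc := by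
    apply Subtype.ext
    apply Units.ext
    exact hg
  rw [h1]
  exact h c hc

/-- conjugates of the reflections -/
theorem conj_R1 (g : O) (c : V) (hc : Qf c = 1) : g * R1 c hc * g⁻¹ = R1 (ac g c) (by rw [Qf_ac, hc]) :=
  conj_reflIso QF c _ g _

theorem conj_R2 (g : O) (c : V) (hc : Qf c = 2) : g * R2 c hc * g⁻¹ = R2 (ac g c) (by rw [Qf_ac, hc]) :=
  conj_reflIso QF c _ g _

/-- paths are realized in the reflection group -/
theorem Path.mem {v w : V} {S : Set (Fin 8)} (h : Path S v w) : ∃ g ∈ RG, ac g v = w := by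
  induction h with
  | refl => exact ⟨1, one_mem _, ac_one _⟩
  | step a b j hj h ih =>
    obtain ⟨g, hg, hgv⟩ := ih
    refine ⟨g * R1 (cen j) (Qf_cen j), mul_mem hg (R1_mem _ _), ?_⟩
    rw [ac_mul, ac_R1]
    exact hgv

/-- six orthogonal vectors of norm 1 orthogonal to `y2` -/
def fr : Fin 6 → V := ![![0, 0, 1, 0, 0, 0, 0], ![0, 0, 0, 1, 0, 0, 0], ![0, 0, 0, 0, 0, 1, 0], ![0, 0, 0, 1, 2, 0, 1],
  ![1, 2, 0, 1, 2, 1, 0], ![1, 2, 0, 2, 1, 2, 0]]

theorem Qfr (i : Fin 6) : Qf (fr i) = 1 := by revert i; decide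

theorem six_basis (i : Fin 7) : rc (fr 0) (rc (fr 1) (rc (fr 2) (rc (fr 3) (rc (fr 4) (rc (fr 5) (Pi.single i 1)))))) =
    -(Pi.single i 1 + Bf (Pi.single i 1) y2 • y2) := by revert i; decide +kernel

theorem six (v : V) : rc (fr 0) (rc (fr 1) (rc (fr 2) (rc (fr 3) (rc (fr 4) (rc (fr 5) v))))) = -(v + Bf v y2 • y2) := by
  induction v using V_ind with
  | h0 =>
    simp only [rc_zero]
    have h : Bf 0 y2 = 0 := by decide
    rw [h, zero_smul, add_zero, neg_zero]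
  | ha v w hv hw =>
    simp only [rc_add]
    rw [hv, hw, Bf_add_left, add_smul]
    abel
  | h1 i => exact six_basis i

theorem neg_R2_mem (c : V) (hc : Qf c = 2) : nO * R2 c hc ∈ RG := by
  obtain ⟨g, hg, hgc⟩ := (path_two hc).mem
  have h1 : nO * R2 y2 Qy2 ∈ RG := by
    have h2 : nO * R2 y2 Qy2 = R1 (fr 0) (Qfr 0) * (R1 (fr 1) (Qfr 1) * (R1 (fr 2) (Qfr 2) * (R1 (fr 3) (Qfr 3) *
        (R1 (fr 4) (Qfr 4) * R1 (fr 5) (Qfr 5))))) := by
      apply ac_ext
      intro v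
      rw [ac_mul, ac_nO, ac_R2, ac_mul, ac_mul, ac_mul, ac_mul, ac_mul, ac_R1, ac_R1, ac_R1, ac_R1, ac_R1, ac_R1, six]
    rw [h2]
    exact mul_mem (R1_mem _ _) (mul_mem (R1_mem _ _) (mul_mem (R1_mem _ _) (mul_mem (R1_mem _ _)
      (mul_mem (R1_mem _ _) (R1_mem _ _)))))
  have h3 : nO * R2 c hc = g⁻¹ * (nO * R2 y2 Qy2) * g := by
    have h4 := conj_R2 g c hc
    have h5 : R2 (ac g c) (by rw [Qf_ac, hc]) = R2 y2 Qy2 := by
      congr 1
    rw [← h5, ← h4]
    have e := nO_comm g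
    have h6 : g⁻¹ * (nO * (g * R2 c hc * g⁻¹)) * g = g⁻¹ * (nO * g) * R2 c hc := by group
    rw [h6, e]
    group
  rw [h3]
  exact mul_mem (mul_mem (inv_mem hg) h1) hg

/-- **an isometry `g` or `-g` is in the reflection group** -/
theorem mem_or (g : O) : g ∈ RG ∨ nO * g ∈ RG := by
  refine Cfsg.Agent.ClassicalGeometry.CartanDieudonne.isometry_induction (by decide) QF nondeg
    (fun g => g ∈ RG ∨ nO * g ∈ RG) (Or.inl (one_mem _)) ?_ g
  intro v hv g hg
  have hq : Qf v = 1 ∨ Qf v = 2 := by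
    have h : ∀ x : ZMod 3, x ≠ 0 → x = 1 ∨ x = 2 := by decide
    exact h _ hv
  have h4 : ∀ x y : O, nO * (x * y) = x * (nO * y) := fun x y => by
    rw [← mul_assoc, nO_comm, mul_assoc]
  rcases hq with hq | hq
  · have h1 : reflIso QF v hv ∈ RG := R1_mem v hq
    rcases hg with hg | hg
    · exact Or.inl (mul_mem h1 hg)
    · right
      show nO * (reflIso QF v hv * g) ∈ RG
      rw [h4]
      exact mul_mem h1 hg
  · have h1 : nO * reflIso QF v hv ∈ RG := neg_R2_mem v hq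
    rcases hg with hg | hg
    · right
      show nO * (reflIso QF v hv * g) ∈ RG
      rw [← mul_assoc]
      exact mul_mem h1 hg
    · left
      have h5 : reflIso QF v hv * g = (nO * reflIso QF v hv) * (nO * g) := by
        calc reflIso QF v hv * g = (nO * nO) * reflIso QF v hv * g := by rw [nO_sq, one_mul]
          _ = nO * (nO * (reflIso QF v hv * g)) := by simp only [mul_assoc]
          _ = nO * (reflIso QF v hv * (nO * g)) := by rw [h4 (reflIso QF v hv) g]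
          _ = _ := by rw [mul_assoc]
      rw [h5]
      exact mul_mem h1 hg

/-! ### The determinant -/

/-- the Gram matrix -/
def GMf : Fin 7 → Fin 7 → ZMod 3 :=
  ![![2, 0, 0, 0, 0, 0, 0],
    ![0, 2, 0, 0, 0, 0, 0],
    ![0, 0, 2, 0, 0, 0, 0],
    ![0, 0, 0, 2, 2, 0, 0],
    ![0, 0, 0, 2, 2, 2, 0],
    ![0, 0, 0, 0, 2, 2, 2],
    ![0, 0, 0, 0, 0, 2, 2]]
def GM : Matrix (Fin 7) (Fin 7) (ZMod 3) := Matrix.of GMf

/-- the same with two basis vectors exchanged -/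
def GM'f : Fin 7 → Fin 7 → ZMod 3 :=
  ![![2, 0, 0, 0, 0, 0, 0],
    ![0, 2, 0, 0, 0, 0, 0],
    ![0, 0, 2, 0, 0, 0, 0],
    ![0, 0, 0, 2, 0, 2, 0],
    ![0, 0, 0, 0, 2, 2, 2],
    ![0, 0, 0, 2, 2, 2, 0],
    ![0, 0, 0, 0, 2, 0, 2]]
def GM' : Matrix (Fin 7) (Fin 7) (ZMod 3) := Matrix.of GM'f

def UMf : Fin 7 → Fin 7 → ZMod 3 :=
  ![![1, 0, 0, 0, 0, 0, 0],
    ![0, 1, 0, 0, 0, 0, 0],
    ![0, 0, 1, 0, 0, 0, 0],
    ![0, 0, 0, 1, 0, 2, 1],
    ![0, 0, 0, 0, 1, 2, 0],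
    ![0, 0, 0, 0, 0, 1, 2],
    ![0, 0, 0, 0, 0, 0, 1]]
def UM : Matrix (Fin 7) (Fin 7) (ZMod 3) := Matrix.of UMf

def TMf : Fin 7 → Fin 7 → ZMod 3 :=
  ![![2, 0, 0, 0, 0, 0, 0],
    ![0, 2, 0, 0, 0, 0, 0],
    ![0, 0, 2, 0, 0, 0, 0],
    ![0, 0, 0, 2, 0, 0, 0],
    ![0, 0, 0, 0, 2, 0, 0],
    ![0, 0, 0, 2, 2, 1, 0],
    ![0, 0, 0, 0, 2, 1, 2]]
def TM : Matrix (Fin 7) (Fin 7) (ZMod 3) := Matrix.of TMf

theorem GU : GM' * UM = TM := by decide +kernel

theorem det_UM : UM.det = 1 := by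
  have h2 : ∀ i j : Fin 7, j < i → UMf i j = 0 := by decide +kernel
  have h : UM.IsUpperTriangular := fun i j hij => h2 i j hij
  rw [Matrix.det_of_isUpperTriangular h]
  show ∏ i : Fin 7, UMf i i = 1
  decide +kernel

theorem det_TM : TM.det = 1 := by
  have h2 : ∀ i j : Fin 7, i < j → TMf i j = 0 := by decide +kernel
  have h : TM.IsLowerTriangular := fun i j hij => h2 i j hij
  rw [Matrix.det_of_isLowerTriangular _ h]
  show ∏ i : Fin 7, TMf i i = 1
  decide +kernel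

theorem det_GM' : GM'.det = 1 := by
  have h := congrArg Matrix.det GU
  rwa [Matrix.det_mul, det_UM, det_TM, mul_one] at h

theorem GM_sub : GM.submatrix (Equiv.swap 4 5) (Equiv.swap 4 5) = GM' := by decide +kernel

theorem det_GM : GM.det = 1 := by
  rw [← det_GM', ← GM_sub, Matrix.det_submatrix_equiv_self]

theorem GM_eq : (Matrix.of fun i j : Fin 7 => polar (⇑QF) (Pi.single i 1) (Pi.single j 1)) = GM := by
  have h : ∀ i j : Fin 7, Bf (Pi.single i 1) (Pi.single j 1) = GMf i j := by decide +kernel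
  ext i j
  rw [Matrix.of_apply, polar_QF]
  exact h i j

theorem gramDet : Cfsg.polarGramDet (⇑QF) = 1 := by
  unfold Cfsg.polarGramDet
  rw [GM_eq, det_GM]

end Cfsg.Agent.H841.Sev
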