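import Cfsg.Agent.H841.SevJ
import Cfsg.Agent.H841.Transport

/-!
# Transport of the local statements (helper841)
-/

set_option autoImplicit false

namespace Cfsg.Agent.H841.Transport

open Subgroup

variable {G G' : Type*} [Group G] [Group G']

theorem map_subgroupOf (e : G ≃* G') (A N : Subgroup G) :
    (A.subgroupOf N).map (mapEquiv e N).toMonoidHom = (A.map e.toMonoidHom).subgroupOf (N.map e.toMonoidHom) := by
  ext x
  rw [Subgroup.mem_subgroupOf]
  constructor
  · rintro ⟨y, hy, rfl⟩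
    exact ⟨y, Subgroup.mem_subgroupOf.1 hy, rfl⟩
  · rintro ⟨y, hy, hyx⟩
    obtain ⟨_, w, hw, rfl⟩ := x
    have h1 : e y = e w := hyx
    have h2 := e.injective h1
    subst h2
    exact ⟨⟨y, hw⟩, Subgroup.mem_subgroupOf.2 hy, Subtype.ext rfl⟩

theorem normal_map (e : G ≃* G') {A N : Subgroup G} (h : (A.subgroupOf N).Normal) :
    ((A.map e.toMonoidHom).subgroupOf (N.map e.toMonoidHom)).Normal := by
  rw [← map_subgroupOf]
  exact h.map _ (mapEquiv e N).surjective

/-- a quotient of a normalizer, transported -/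
theorem exists_normal (e : G ≃* G') {A N : Subgroup G} {X : Type*} [Group X] (hn : (A.subgroupOf N).Normal)
    (hi : Nonempty (N ⧸ A.subgroupOf N ≃* X)) (M : Subgroup G') (hM : N.map e.toMonoidHom = M) :
    ∃ _ : ((A.map e.toMonoidHom).subgroupOf M).Normal, Nonempty (M ⧸ (A.map e.toMonoidHom).subgroupOf M ≃* X) := by
  subst hM
  have := normal_map e hn
  obtain ⟨i⟩ := hi
  exact ⟨normal_map e hn, ⟨(QuotientGroup.congr (A.subgroupOf N) ((A.map e.toMonoidHom).subgroupOf (N.map e.toMonoidHom))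
    (mapEquiv e N) (map_subgroupOf e A N)).symm.trans i⟩⟩

theorem exists_refl (e : G ≃* G') {A N : Subgroup G} {n : ℕ} {μ c : ZMod 3} (hn : (A.subgroupOf N).Normal)
    (hi : Cfsg.IsReflectionGroupModThree (N ⧸ A.subgroupOf N) n μ c) (M : Subgroup G') (hM : N.map e.toMonoidHom = M) :
    ∃ _ : ((A.map e.toMonoidHom).subgroupOf M).Normal,
      Cfsg.IsReflectionGroupModThree (M ⧸ (A.map e.toMonoidHom).subgroupOf M) n μ c := by
  obtain ⟨Q, h1, h2, h3⟩ := hi
  obtain ⟨h4, h5⟩ := exists_normal e hn h3 M hM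
  exact ⟨h4, Q, h1, h2, h5⟩

theorem isDSubgroup_map (e : G ≃* G') {D : Set G} {N : Subgroup G} (h : Cfsg.IsDSubgroup D N) :
    Cfsg.IsDSubgroup (e '' D) (N.map e.toMonoidHom) := by
  unfold Cfsg.IsDSubgroup at h ⊢
  have h1 : {d | d ∈ e '' D ∧ d ∈ N.map e.toMonoidHom} = e '' {d | d ∈ D ∧ d ∈ N} := by
    ext x
    constructor
    · rintro ⟨⟨y, hy, rfl⟩, ⟨z, hz, hzy⟩⟩
      have h2 : e z = e y := hzy
      have h3 := e.injective h2
      subst h3
      exact ⟨z, ⟨hy, hz⟩, rfl⟩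
    · rintro ⟨y, ⟨hy, hyN⟩, rfl⟩
      exact ⟨⟨y, hy, rfl⟩, ⟨y, hyN, rfl⟩⟩
  rw [h1, ← map_closure, h]

end Cfsg.Agent.H841.Transport

namespace Cfsg.Agent.H841.Sev

open Cfsg.Agent.H841.Transport

/-- **S5501 for a group isomorphic to `Fi24`** -/
theorem exists_A {G : Type*} [Group G] {D : Set G} (e : Cfsg.Spor.Fi24 ≃* G) (he : e '' Cfsg.Agent.R08.FiTwentyFour.L = D) :
    ∃ A : Subgroup G, Cfsg.IsElementaryAbelian 3 A ∧ Nat.card A = 3 ^ 7 ∧
      Cfsg.IsDSubgroup D (Subgroup.normalizer ((A : Subgroup G) : Set G)) ∧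
      ∃ _ : (A.subgroupOf (Subgroup.normalizer ((A : Subgroup G) : Set G))).Normal,
        Cfsg.IsReflectionGroupModThree (↥(Subgroup.normalizer ((A : Subgroup G) : Set G)) ⧸
          A.subgroupOf (Subgroup.normalizer ((A : Subgroup G) : Set G))) 7 1 1 := by
  have hN := map_normalizer e A
  refine ⟨A.map e.toMonoidHom, isElementaryAbelian_map e elemA, ?_, ?_, ?_⟩
  · rw [card_map, card_A]
  · rw [← hN, ← he]
    exact isDSubgroup_map e isDSubgroup
  · exact exists_refl e normal_A (refl_mod normal_A) _ hN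

end Cfsg.Agent.H841.Sev
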